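import Groth.Agent.CechX.TildeCech
import Groth.Agent.CechX.BasicOpens
import Groth.Agent.CechX.KoszulPow
import Groth.Agent.CechX.KoszulPoly
import Groth.Agent.KosSpan.Basic
import Groth.Agent.LocFree.Props
import Groth.Agent.LCZ.Scheme
import Groth.Agent.LCZQC.LocClosed
import Groth.Agent.LCZQC.Acyclic
import Groth.Prelude.Def_LCI2
import Groth.Prelude.Def_LocCohZ

/-!
Local cohomology sheaves along a Koszul-regular closed subset of a flat module live in one degree;
comparison of the module and abelian local cohomology sheaves.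
-/

set_option autoImplicit false
set_option backward.isDefEq.respectTransparency false
set_option backward.isDefEq.respectTransparency.types false
set_option linter.style.haveILetI false
set_option linter.unusedSectionVars false

universe u

open CategoryTheory CategoryTheory.Limits Opposite TopologicalSpace AlgebraicGeometry MonoidalCategory

noncomputable section

namespace Groth.Agent.LCZVan

section Compare

variable {Z Y : Scheme.{u}} (k : Y ⟶ Z) [IsOpenImmersion k] (U : Z.Opens)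

/-- the local cohomology sheaves of a module and of its abelian sheaf agree -/
theorem nonempty_toAb_HZshM [HasInjectiveResolutions Z.Modules] (hU : k.opensRange = U) (F : Z.Modules) (i : ℕ) :
    Nonempty (Coh.toAb ((LocCohZ.HZshM k i).obj F) ≅ (LocCohZ.HZsh (X := Z.carrier) U i).obj (Coh.toAb F)) := by
  let T := SheafOfModules.toSheaf Z.ringCatSheaf
  haveI : PreservesFiniteLimits T := inferInstance
  haveI : PreservesFiniteColimits T := CohQC.toSheaf_preservesFiniteColimits Z.ringCatSheaf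
  haveI : T.PreservesHomology := Functor.preservesHomologyOfExact T
  let R := injectiveResolution F
  let S := LocCohZ.sectSuppF (X := Z.carrier) U
  let K := (T.mapHomologicalComplex (ComplexShape.up ℕ)).obj R.cocomplex
  have hex : ∀ m, K.ExactAt (m + 1) := fun m => (HomologicalComplex.exactAt_iff _ (m + 1)).mpr
    (((HomologicalComplex.exactAt_iff R.cocomplex (m + 1)).mp (R.cocomplex_exactAt_succ m)).map T)
  have hK : ∀ m q, IsZero ((S.rightDerived (q + 1)).obj (K.X m)) := fun m q => by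
    haveI : TopCat.Sheaf.IsFlasque (K.X m) := CohQC.isFlasque_toAb_of_injective (R.cocomplex.X m)
    exact LCZ.isZero_HZsh_of_isFlasque U (Nat.succ_pos q)
  obtain ⟨e⟩ := LCZQC.acyc_homology S K hex hK i
  let e0 : T.obj F ≅ K.cycles 0 :=
    T.mapIso (IsLimit.conePointUniqueUpToIso R.isLimitKernelFork
      (R.cocomplex.cyclesIsKernel 0 1 (by simp))) ≪≫ ((R.cocomplex.sc 0).mapCyclesIso T).symm
  let eC := (Functor.mapHomologicalComplexCompIso (LCZQC.gammaToAbIso k U hU) (ComplexShape.up ℕ)).app R.cocomplex ≪≫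
    ((Functor.mapHomologicalComplexCompIso (Iso.refl (T ⋙ S)) (ComplexShape.up ℕ)).app R.cocomplex).symm
  exact ⟨T.mapIso (R.isoRightDerivedObj (DCoh.gammaZ k) i) ≪≫
    (((((DCoh.gammaZ k).mapHomologicalComplex (ComplexShape.up ℕ)).obj R.cocomplex).sc i).mapHomologyIso T).symm ≪≫
    (HomologicalComplex.homologyFunctor _ _ i).mapIso eC ≪≫ e ≪≫ (S.rightDerived i).mapIso e0.symm⟩

/-- vanishing can be tested on abelian sheaves -/
theorem isZero_HZshM [HasInjectiveResolutions Z.Modules] (hU : k.opensRange = U) (F : Z.Modules) (i : ℕ)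
    (h : IsZero ((LocCohZ.HZsh (X := Z.carrier) U i).obj (Coh.toAb F))) :
    IsZero ((LocCohZ.HZshM k i).obj F) := by
  obtain ⟨e⟩ := nonempty_toAb_HZshM k U hU F i
  let T := SheafOfModules.toSheaf Z.ringCatSheaf
  haveI : T.Faithful := inferInstance
  exact (IsZero.iff_id_eq_zero _).2 (T.map_injective ((h.of_iso e).eq_of_src _ _))

end Compare

section Koszul

variable {A : Type u} [CommRing A]

/-- the Koszul complex of a flat module along a Koszul-regular sequence -/
theorem conc_koszulCx_of_flat (fs : List A) (h : LCI.IsKoszulRegularSeq A fs) (N : ModuleCat.{u} A)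
    [Module.Flat A N] : CechX.Conc 0 (CohIII.koszulCx N fs) := by
  haveI : (tensorRight N).PreservesHomology := Functor.preservesHomology_of_map_exact _ fun S hS => by
    rw [ShortComplex.ShortExact.moduleCat_exact_iff_function_exact] at hS ⊢
    exact Module.Flat.rTensor_exact N hS
  rw [CechX.koszulCx_eq]
  refine CechX.Conc.of_iso (fun i hi => ?_) (KosSpan.tensorKoszulIso N fs)
  exact ((tensorRight N).map_isZero (h i hi)).of_iso
    (((Koszul.koszul A fs).sc i).mapHomologyIso (tensorRight N))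

theorem subsingleton_koszulHLim_of_flat (fs : List A) (h : LCI.IsKoszulRegularSeq A fs) (N : ModuleCat.{u} A)
    [Module.Flat A N] (i : ℕ) (hi : i ≠ fs.length) : Subsingleton (CohIII.koszulHLim fs N i) := by
  refine CechX.subsingleton_koszulHLim_of_isZero N fs i fun n => ?_
  have h0 := conc_koszulCx_of_flat fs h N
  rw [CechX.koszulCx_eq] at h0
  have h1 := CechX.conc_KC_pow n fs _ 0 h0
  rw [← CechX.koszulCx_eq] at h1
  exact h1 _ (by omega)

end Koszul

section Sheaf

variable {X : Scheme.{u}} (U : X.Opens) (F : X.Modules)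

theorem subsingleton_HZ_basicOpen (hF : Coh.IsQCoh F) (hFl : FlatMod.IsFlat F) {V : X.Opens} (hV : IsAffineOpen V)
    (fs : List Γ(X, V)) (hreg : LCI.IsKoszulRegularSeq Γ(X, V) fs)
    (hmem : ∀ x ∈ V, x ∈ U ↔ ∃ f ∈ fs, x ∈ X.basicOpen f) (i : ℕ) (hi : i ≠ fs.length) (a : Γ(X, V)) :
    Subsingleton (LocCohZ.HZ (X := X.carrier) (Coh.toAb F) i (inf_le_left : X.basicOpen a ⊓ U ≤ X.basicOpen a)) := by
  haveI : F.IsQuasicoherent := hF
  let f := hV.fromSpec
  haveI : (F.restrict f).IsQuasicoherent := Groth.Agent.QC.isQCoh_restrict f hF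
  let N : ModuleCat.{u} Γ(X, V) := (modulesSpecToSheaf.obj (F.restrict f)).presheaf.obj (op ⊤)
  let e : LCZ.tildeAb Γ(X, V) N ≅ Coh.toAb (F.restrict f) :=
    (LCZ.toSheafS (Spec Γ(X, V))).mapIso (Groth.Agent.QC.isoTildeΓ (F.restrict f))
  let eU := Groth.Agent.QC.secEquiv hV F ⊤ (Groth.Agent.QC.image_fromSpec_top hV)
  let eL : N ≃ₗ[Γ(X, V)] Γ(F, V) :=
    { eU with
      map_smul' := fun r s => by
        have h2 := Groth.Agent.QC.secEquiv_smul (M := F) hV _ (Groth.Agent.QC.image_fromSpec_top hV) r s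
        rw [Groth.Agent.QC.resO_self] at h2
        exact h2 }
  haveI : Module.Flat Γ(X, V) Γ(F, V) := LocFree.flat_sections hV hF hFl
  haveI : Module.Flat Γ(X, V) N := Module.Flat.of_linearEquiv eL
  have hW : f ⁻¹ᵁ U = CechX.uni (CechX.Dop (A := Γ(X, V))) fs := by
    rw [CechX.uni_eq_puncturedOpen]
    refine Opens.ext (Set.ext fun p => ?_)
    refine Iff.trans ?_ (CechX.mem_puncturedOpen fs p).symm
    have hpV : f p ∈ V := by
      rw [← SetLike.mem_coe, ← hV.range_fromSpec]; exact ⟨p, rfl⟩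
    refine (hmem (f p) hpV).trans ⟨?_, ?_⟩
    · rintro ⟨g, hg, hp⟩
      obtain ⟨j, rfl⟩ := List.mem_iff_get.1 hg
      refine ⟨j, ?_⟩
      have hp' : p ∈ f ⁻¹ᵁ X.basicOpen (fs.get j) := hp
      rw [hV.fromSpec_preimage_basicOpen] at hp'
      exact hp'
    · rintro ⟨j, hp⟩
      refine ⟨fs.get j, List.get_mem fs j, ?_⟩
      show p ∈ f ⁻¹ᵁ X.basicOpen (fs.get j)
      rw [hV.fromSpec_preimage_basicOpen]
      exact hp
  have hf : Topology.IsOpenEmbedding f.base := f.isOpenEmbedding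
  have hrange : ∀ z ∈ X.basicOpen a, ∃ y, y ∈ CechX.Dop a ∧ f y = z := fun z hz => by
    rw [← hV.fromSpec_image_basicOpen a] at hz
    exact hz
  have hmap : ∀ y, y ∈ CechX.Dop a → f y ∈ X.basicOpen a := fun y hy => by
    rw [← hV.fromSpec_image_basicOpen a]; exact ⟨y, hy, rfl⟩
  have hb := LCZ.restrHZ_bijective (X := X.carrier) (Y := (Spec Γ(X, V)).carrier) (f := f.base) hf
    (inf_le_left : X.basicOpen a ⊓ U ≤ X.basicOpen a)
    (inf_le_left : CechX.Dop a ⊓ f ⁻¹ᵁ U ≤ CechX.Dop a)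
    (fun z ⟨y, hy, e⟩ => e ▸ ⟨hmap y hy.1, hy.2⟩)
    (fun z hz => by obtain ⟨y, hy, rfl⟩ := hrange z hz.1; exact ⟨y, ⟨hy, hz.2⟩, rfl⟩)
    (fun z ⟨y, hy, e⟩ => e ▸ hmap y hy)
    (fun z hz => by obtain ⟨y, hy, rfl⟩ := hrange z hz; exact ⟨y, hy, rfl⟩) i (Coh.toAb F)
  refine (AddEquiv.ofBijective _ hb).toEquiv.subsingleton_congr.2 ?_
  refine LCZ.subsingleton_HZ_of_iso e _ ?_
  have h0 := CechX.subsingleton_HZ_basic N fs i (subsingleton_koszulHLim_of_flat fs hreg N i hi)
    (W := CechX.Dop a) ⟨a, rfl⟩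
  have key : ∀ (W' W'' : (Spec Γ(X, V)).Opens), W' = W'' →
      Subsingleton (LocCohZ.HZ (X := (Spec Γ(X, V)).carrier) (LCZ.tildeAb Γ(X, V) N) i
        (inf_le_left : CechX.Dop a ⊓ W' ≤ CechX.Dop a)) →
      Subsingleton (LocCohZ.HZ (X := (Spec Γ(X, V)).carrier) (LCZ.tildeAb Γ(X, V) N) i
        (inf_le_left : CechX.Dop a ⊓ W'' ≤ CechX.Dop a)) := by
    rintro W' W'' rfl h
    exact h
  exact key _ _ hW.symm h0

theorem isZero_HZsh_of_koszulRegular (c : ℕ) (hZ : ∀ x : X, ∃ (V : X.Opens) (fs : List Γ(X, V)),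
      x ∈ V ∧ IsAffineOpen V ∧ fs.length = c ∧ LCI.IsKoszulRegularSeq Γ(X, V) fs ∧
        X.zeroLocus (U := V) {a | a ∈ fs} ∩ (V : Set ↥X) = (U : Set ↥X)ᶜ ∩ (V : Set ↥X))
    (hF : Coh.IsQCoh F) (hFl : FlatMod.IsFlat F) (i : ℕ) (hi : i ≠ c) :
    IsZero ((LocCohZ.HZsh (X := X.carrier) U i).obj (Coh.toAb F)) := by
  refine LCZ.isZero_HZsh_of_subsingleton (X := X.carrier) U fun O x hx => ?_
  obtain ⟨V, fs, hxV, hV, hc, hreg, he⟩ := hZ x
  obtain ⟨a, haO, hxa⟩ := hV.exists_basicOpen_le (⟨x, hx⟩ : (show X.Opens from O)) hxV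
  refine ⟨X.basicOpen a, hxa, haO, subsingleton_HZ_basicOpen U F hF hFl hV fs hreg (fun y hy => ?_) i (hc ▸ hi) a⟩
  have h := Set.ext_iff.1 he y
  simp only [Set.mem_inter_iff, Scheme.mem_zeroLocus_iff, SetLike.mem_coe, Set.mem_compl_iff, Set.mem_setOf_eq,
    hy, and_true] at h
  constructor
  · intro hU
    by_contra hne
    push Not at hne
    exact h.1 hne hU
  · rintro ⟨f, hf, hyf⟩
    by_contra hU
    exact h.2 hU f hf hyf

end Sheaf

end Groth.Agent.LCZVan
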