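import Groth.Agent.LCZQC.Main
import Groth.Agent.CohQC.Relative
import Groth.Agent.CohQC.Restrict
import Groth.Agent.DerQC.Square
import Groth.Agent.W7ExtZero.Basic

/-!
Local cohomology sheaves vanish above the number of equations.
-/

set_option autoImplicit false
set_option backward.isDefEq.respectTransparency false
set_option backward.isDefEq.respectTransparency.types false
set_option linter.style.haveILetI false

universe u

open CategoryTheory CategoryTheory.Limits Opposite TopologicalSpace AlgebraicGeometry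

noncomputable section

namespace Groth.Agent.LCZVan

variable {X : Scheme.{u}} (U : X.Opens) (c : ℕ)
  (hT : ∀ x : X, ∃ (V : X.Opens) (fs : Finset Γ(X, V)), x ∈ V ∧ fs.card ≤ c ∧
    X.zeroLocus (U := V) (↑fs : Set Γ(X, V)) ∩ (V : Set ↥X) = (U : Set ↥X)ᶜ ∩ (V : Set ↥X))

include hT in
/-- The higher direct images from the complement vanish in degrees at least the number of equations. -/
theorem locKilled (M : U.toScheme.Modules) (hM : Coh.IsQCoh M) (m : ℕ) (hm : c ≤ m) :
    SiteCoh.LocKilled (Opens.grothendieckTopology X) (Opens.map U.ι.base) (Coh.toAb M) m := by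
  classical
  haveI : M.IsQuasicoherent := hM
  refine CohQC.locKilled_of_basis U.ι.base (Coh.toAb M) m
    {W | IsAffineOpen (X := X) W ∧ ∃ (V : X.Opens) (fs : Finset Γ(X, V)), W ≤ V ∧ fs.card ≤ c ∧
      X.zeroLocus (U := V) (↑fs : Set Γ(X, V)) ∩ (V : Set ↥X) = (U : Set ↥X)ᶜ ∩ (V : Set ↥X)}
    (fun V y hy => ?_) ?_
  · obtain ⟨V', fs, hyV', hc, he⟩ := hT y
    obtain ⟨W, hW, hyW, hWV⟩ := CohQC.exists_affine_le (V ⊓ V') y ⟨hy, hyV'⟩
    exact ⟨W, ⟨hW, V', fs, hWV.trans inf_le_right, hc, he⟩, hyW, hWV.trans inf_le_left⟩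
  rintro W ⟨hW, V, fs, hWV, hc, he⟩
  let g : Fin fs.card → X.Opens := fun i =>
    X.basicOpen (QC.resO X hWV ((fs.equivFin.symm i).1))
  have hg : ∀ i, g i = W ⊓ X.basicOpen ((fs.equivFin.symm i).1) := fun i => X.basicOpen_res _ _
  have hmem : ∀ x ∈ W, (x ∈ U ↔ ∃ f ∈ fs, x ∈ X.basicOpen f) := fun x hx => by
    have h := Set.ext_iff.1 he x
    simp only [Set.mem_inter_iff, Scheme.mem_zeroLocus_iff, SetLike.mem_coe, Set.mem_compl_iff] at h
    have hxV : x ∈ V := hWV hx
    simp only [hxV, and_true] at h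
    constructor
    · intro hU
      by_contra hne
      push Not at hne
      exact (h.1 fun f hf => hne f hf) hU
    · rintro ⟨f, hf, hxf⟩
      by_contra hU
      exact h.2 hU f hf hxf
  have hle : ∀ i, g i ≤ U := fun i x hx => by
    rw [hg] at hx
    exact (hmem x hx.1).2 ⟨_, (fs.equivFin.symm i).2, hx.2⟩
  have key : U.ι ⁻¹ᵁ W = ⨆ i, U.ι ⁻¹ᵁ g i := by
    refine le_antisymm (fun x hx => ?_) (iSup_le fun i => U.ι.preimage_mono ((hg i).le.trans inf_le_left))
    obtain ⟨f, hf, hxf⟩ := (hmem (U.ι x) hx).1 x.2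
    refine Opens.mem_iSup.2 ⟨fs.equivFin ⟨f, hf⟩, ?_⟩
    change U.ι x ∈ g _
    rw [hg, Equiv.symm_apply_apply]
    exact ⟨hx, hxf⟩
  change Subsingleton (CohSite.HU (Coh.toAb M) m (U.ι ⁻¹ᵁ W))
  rw [key]
  refine CohQC.hu_iSup_vanish (Coh.toAb M)
    {D : U.toScheme.Opens | ∃ a : Γ(X, W), X.basicOpen a ≤ U ∧ U.ι ⁻¹ᵁ X.basicOpen a = D} ?_ ?_ fs.card _
    (fun i => ⟨_, hle i, rfl⟩) m (hc.trans hm)
  · rintro _ ⟨a, ha, rfl⟩ _ ⟨b, hb, rfl⟩
    refine ⟨a * b, (X.basicOpen_mul a b).le.trans (inf_le_left.trans ha), ?_⟩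
    rw [X.basicOpen_mul]; rfl
  · rintro _ ⟨a, ha, rfl⟩ q
    exact CohQC.hu_vanish_of_isAffineOpen M
      ((hW.basicOpen a).preimage_of_isOpenImmersion U.ι (by rw [Scheme.Opens.opensRange_ι]; exact ha)) q

include hT in
theorem isZero_rightDerived [HasInjectiveResolutions X.Modules] (F : X.Modules) (hF : Coh.IsQCoh F) (i : ℕ)
    (hi : c < i) : IsZero (((DCoh.gammaZ U.ι).rightDerived i).obj F) := by
  obtain ⟨m, rfl⟩ : ∃ m, i = m + 1 := ⟨i - 1, by omega⟩
  haveI := RPushQC.hasInjectiveResolutions U.toScheme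
  let R := injectiveResolution F
  let r := Scheme.Modules.restrictFunctor U.ι
  haveI : r.PreservesHomology := Functor.preservesHomologyOfExact r
  refine IsZero.of_iso ?_ (R.isoRightDerivedObj (DCoh.gammaZ U.ι) (m + 1))
  have hS := LCZQC.seq_shortExact U.ι R.cocomplex fun n => RPushQC.isFlasque_of_injective _
  let R' : InjectiveResolution (r.obj F) :=
    { cocomplex := (r.mapHomologicalComplex _).obj R.cocomplex
      injective := fun n => W7ExtZero.injective_restrict U (R.cocomplex.X n) inferInstance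
      ι := ((HomologicalComplex.singleMapHomologicalComplex r (ComplexShape.up ℕ) 0).app F).inv ≫
        (r.mapHomologicalComplex _).map R.ι }
  have h3 : IsZero ((LCZQC.seq U.ι R.cocomplex).X₃.homology m) :=
    (DerQC.isZero_rpush_of_locKilled U.ι (r.obj F)
      (locKilled U c hT (r.obj F) (QC.isQCoh_restrict U.ι hF) m (by omega))).of_iso
        (R'.isoRightDerivedObj (Coh.push U.ι) m).symm
  exact (hS.homology_exact₁ m (m + 1) rfl).isZero_X₂ (h3.eq_of_src _ _)
    ((R.cocomplex_exactAt_succ m).isZero_homology.eq_of_tgt _ _)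

end Groth.Agent.LCZVan
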